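import Groth.Agent.CycPic.Kum
import Mathlib.FieldTheory.IsAlgClosed.AlgebraicClosure
import Mathlib.RingTheory.RootsOfUnity.PrimitiveRoots
import Mathlib.RingTheory.IntegralClosure.IntegrallyClosed
import Mathlib.RingTheory.Localization.FractionRing

/-! # Irreducibility of Kummer polynomials in the presence of roots of unity -/

set_option autoImplicit false

universe u

open Polynomial

noncomputable section

namespace Groth.Agent.CycCovIrr

theorem irreducible_of_not_pow {K : Type u} [Field K] {N : ℕ} (hN : 0 < N) {ζ : K} (hζ : IsPrimitiveRoot ζ N)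
    {a : K} (ha : ∀ p, p.Prime → p ∣ N → ∀ c, c ^ p ≠ a) : Irreducible (X ^ N - C a) := by
  rcases eq_or_lt_of_le (Nat.one_le_iff_ne_zero.2 hN.ne') with h1 | h1
  · rw [← h1, pow_one]; exact irreducible_X_sub_C a
  have ha0 : a ≠ 0 := fun h => ha _ (Nat.minFac_prime (ne_of_gt h1)) (Nat.minFac_dvd N) 0
    (by rw [h, zero_pow (Nat.minFac_pos N).ne'])
  have hm : (X ^ N - C a : K[X]).Monic := monic_X_pow_sub_C a hN.ne'
  obtain ⟨g, hgm, hgi, hgd⟩ := exists_monic_irreducible_factor (X ^ N - C a : K[X])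
    (not_isUnit_of_natDegree_pos _ (by rwa [natDegree_X_pow_sub_C]))
  haveI : NeZero N := ⟨hN.ne'⟩
  let L := AlgebraicClosure K
  let φ := algebraMap K L
  obtain ⟨α, hα⟩ := IsAlgClosed.exists_aeval_eq_zero L g (ne_of_gt (degree_pos_of_irreducible hgi))
  have hmin : g = minpoly K α := minpoly.eq_of_irreducible_of_monic hgi hα hgm
  have hroot : ∀ r : L, aeval r g = 0 → r ^ N = φ a := fun r hr => by
    obtain ⟨q, hq⟩ := hgd
    have h2 := congrArg (aeval r) hq
    rw [map_mul, hr, zero_mul, map_sub, map_pow, aeval_X, aeval_C] at h2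
    exact sub_eq_zero.1 h2
  have hαN : α ^ N = φ a := hroot α hα
  have hα0 : α ≠ 0 := fun h => ha0 (φ.injective (by rw [map_zero, ← hαN, h, zero_pow hN.ne']))
  have hz : IsPrimitiveRoot (φ ζ) N := hζ.map_of_injective φ.injective
  let d := g.natDegree
  -- the product of the roots
  have hd : α ^ d ∈ φ.fieldRange := by
    have hs : (g.map φ).Splits := IsAlgClosed.splits _
    have hprod : (g.map φ).roots.prod ∈ φ.fieldRange := by
      have h2 := hs.coeff_zero_eq_prod_roots_of_monic (hgm.map φ)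
      rw [coeff_map, natDegree_map] at h2
      refine ⟨(-1) ^ d * g.coeff 0, ?_⟩
      rw [map_mul, h2, map_pow, map_neg, map_one, ← mul_assoc, ← mul_pow, neg_one_mul, neg_neg, one_pow, one_mul]
    have hcard : (g.map φ).roots.card = d := by
      rw [← hs.natDegree_eq_card_roots, natDegree_map]
    have heach : ∀ r ∈ (g.map φ).roots, r / α ∈ φ.fieldRange := fun r hr => by
      rw [mem_roots (hgm.map φ).ne_zero, IsRoot.def, eval_map, ← aeval_def] at hr
      obtain ⟨i, -, hi⟩ := hz.eq_pow_of_pow_eq_one (show (r / α) ^ N = 1 by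
        rw [div_pow, hroot r hr, hαN, div_self (fun h => ha0 (φ.injective (h.trans (map_zero φ).symm)))])
      exact ⟨ζ ^ i, by rw [map_pow, hi]⟩
    have hq : ((g.map φ).roots.map fun r => r / α).prod ∈ φ.fieldRange :=
      multiset_prod_mem _ fun x hx => by
        obtain ⟨r, hr, rfl⟩ := Multiset.mem_map.1 hx
        exact heach r hr
    have hq0 : ((g.map φ).roots.map fun r => r / α).prod = (g.map φ).roots.prod / α ^ d := by
      rw [Multiset.prod_map_div, Multiset.map_id', Multiset.map_const', Multiset.prod_replicate, hcard]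
    rw [hq0] at hq
    by_cases hp0 : (g.map φ).roots.prod = 0
    · exfalso
      rw [Multiset.prod_eq_zero_iff, mem_roots (hgm.map φ).ne_zero, IsRoot.def, eval_map, ← aeval_def] at hp0
      exact ha0 (φ.injective (by rw [map_zero, ← hroot 0 hp0, zero_pow hN.ne']))
    · have h3 := div_mem hprod hq
      rwa [div_div_cancel₀ hp0] at h3
  have he : α ^ Nat.gcd d N ∈ φ.fieldRange := by
    rw [← zpow_natCast, Nat.gcd_eq_gcd_ab, zpow_add₀ hα0, zpow_mul, zpow_mul, zpow_natCast, zpow_natCast]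
    exact mul_mem (zpow_mem hd _) (zpow_mem (hαN ▸ ⟨a, rfl⟩) _)
  obtain ⟨c, hc⟩ := he
  have hdN : d ∣ N := by
    have h2 : g ∣ X ^ Nat.gcd d N - C c := by
      rw [hmin]; exact minpoly.dvd K α (by rw [map_sub, map_pow, aeval_X, aeval_C, ← hc, sub_self])
    have h3 : d ≤ Nat.gcd d N := by
      have := natDegree_le_of_dvd h2 (monic_X_pow_sub_C c (Nat.gcd_pos_of_pos_right d hN).ne').ne_zero
      rwa [natDegree_X_pow_sub_C] at this
    have h4 : Nat.gcd d N ≤ d := Nat.gcd_le_left N (natDegree_pos_iff_degree_pos.2 (degree_pos_of_irreducible hgi))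
    rw [← le_antisymm h4 h3]; exact Nat.gcd_dvd_right d N
  rcases eq_or_ne d N with hdeq | hne
  · rw [eq_of_monic_of_dvd_of_natDegree_le hgm hm hgd (by rw [natDegree_X_pow_sub_C]; exact hdeq.ge)]; exact hgi
  obtain ⟨q, hq⟩ := hdN
  have hq1 : q ≠ 1 := fun h => hne (by rw [hq, h, mul_one])
  obtain ⟨w, hw⟩ := Nat.minFac_dvd q
  obtain ⟨e, he'⟩ := hd
  exfalso
  refine ha _ (Nat.minFac_prime hq1) ((Nat.minFac_dvd q).trans ⟨d, by rw [hq, mul_comm]⟩) (e ^ w) (φ.injective ?_)
  rw [map_pow, map_pow, he', ← pow_mul, ← pow_mul, ← hαN]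
  congr 1
  rw [hq]; conv_rhs => rw [hw]
  ring

/-- A Kummer algebra over an integrally closed domain is a domain unless the radicand is a prime power. -/
theorem isDomain_kum {B : Type u} [CommRing B] [IsDomain B] [IsIntegrallyClosed B] {N : ℕ} (hN : 0 < N)
    {ζ : B} (hζ : IsPrimitiveRoot ζ N) {a : B} (ha : ∀ p, p.Prime → p ∣ N → ∀ b, b ^ p ≠ a) :
    IsDomain (CycPic.Kum B N a) := by
  let K := FractionRing B
  let a' : K := algebraMap B K a
  have hirr : Irreducible (X ^ N - C a' : K[X]) :=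
    irreducible_of_not_pow hN (hζ.map_of_injective (IsFractionRing.injective B K)) fun p hp hpN c hc => by
      obtain ⟨b, hb⟩ := IsIntegrallyClosed.algebraMap_eq_of_integral (x := c)
        (IsIntegral.of_pow (R := B) hp.pos (by rw [hc]; exact isIntegral_algebraMap))
      refine ha p hp hpN b (IsFractionRing.injective B K ?_)
      rw [map_pow, hb, hc]
  haveI := Fact.mk hirr
  haveI : IsDomain (CycPic.Kum K N a') := inferInstance
  let Φ : CycPic.Kum B N a →+* CycPic.Kum K N a' :=
    CycPic.Kum.lift ((AdjoinRoot.of _).comp (algebraMap B K)) (AdjoinRoot.root _) (CycPic.Kum.root_pow N a')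
  have hΦ : ∀ c, Φ (CycPic.Kum.mk a c) = CycPic.Kum.mk a' (fun k => algebraMap B K (c k)) := fun c => by
    rw [CycPic.Kum.mk, CycPic.Kum.mk, map_sum]
    refine Finset.sum_congr rfl fun k _ => ?_
    rw [map_mul, map_pow, CycPic.Kum.lift_of, CycPic.Kum.lift_root]
    rfl
  refine Function.Injective.isDomain Φ fun p q h => ?_
  rw [← CycPic.Kum.mk_cf hN p, ← CycPic.Kum.mk_cf hN q, hΦ, hΦ] at h
  refine CycPic.Kum.ext hN fun k => IsFractionRing.injective B K ?_
  have h2 := congrArg (fun z => CycPic.Kum.cf hN z k) h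
  simp only [CycPic.Kum.cf_mk] at h2
  exact h2

/-- A radicand with a proper root gives zero divisors. -/
theorem not_isDomain_kum {B : Type u} [CommRing B] [Nontrivial B] {m μ : ℕ} (hm : 0 < m) (hμ : 1 < μ) (b : B) :
    ¬ IsDomain (CycPic.Kum B (m * μ) (b ^ μ)) := by
  intro h
  let q : B[X] := ∑ i ∈ Finset.range μ, (X ^ m) ^ i * C b ^ (μ - 1 - i)
  have hfac : q * (X ^ m - C b) = X ^ (m * μ) - C (b ^ μ) := by
    rw [geom_sum₂_mul, ← pow_mul, C_pow]
  have hm1 : (X ^ m - C b : B[X]).Monic := monic_X_pow_sub_C b hm.ne'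
  have hm2 : (X ^ (m * μ) - C (b ^ μ) : B[X]).Monic := monic_X_pow_sub_C _ (Nat.mul_ne_zero hm.ne' (by omega))
  have hm3 : q.Monic := Monic.of_mul_monic_right hm1 (by rw [hfac]; exact hm2)
  have hdeg : q.natDegree + m = m * μ := by
    have := congrArg natDegree hfac
    rwa [hm3.natDegree_mul hm1, natDegree_X_pow_sub_C, natDegree_X_pow_sub_C] at this
  have h0 : AdjoinRoot.mk (X ^ (m * μ) - C (b ^ μ)) q * AdjoinRoot.mk _ (X ^ m - C b) = 0 := by
    rw [← map_mul, hfac, AdjoinRoot.mk_self]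
  have hlt : m < m * μ := lt_mul_of_one_lt_right hm hμ
  rcases eq_zero_or_eq_zero_of_mul_eq_zero h0 with h1 | h1 <;> rw [AdjoinRoot.mk_eq_zero] at h1
  · exact hm2.not_dvd_of_natDegree_lt hm3.ne_zero (by rw [natDegree_X_pow_sub_C]; omega) h1
  · exact hm2.not_dvd_of_natDegree_lt hm1.ne_zero (by rw [natDegree_X_pow_sub_C, natDegree_X_pow_sub_C]; omega) h1

end Groth.Agent.CycCovIrr
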