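import Groth.Agent.CycCovEt.Main

/-! # A root of a section found on one open is a global root -/

set_option autoImplicit false
set_option linter.style.haveILetI false
set_option backward.isDefEq.respectTransparency false

universe u

open CategoryTheory AlgebraicGeometry Opposite TopologicalSpace

noncomputable section

namespace Groth.Agent.CycCovIrr

open Groth.Agent.QCoh Groth.Agent.Props.GenLocus Groth.Agent.Props.GenTensor

variable {X : Scheme.{u}} [IsIntegral X]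

lemma nonempty_inf {U V : X.Opens} [hU : Nonempty U] [hV : Nonempty V] : Nonempty (U ⊓ V : X.Opens) := by
  obtain ⟨x, hx⟩ := nonempty_preirreducible_inter U.2 V.2 (Set.nonempty_coe_sort.1 hU) (Set.nonempty_coe_sort.1 hV)
  exact ⟨⟨x, hx⟩⟩

/-- Restriction to a non-empty open is injective on sections of an invertible module. -/
theorem res_inj {M : X.Modules} (hM : ∀ x : X, ∃ (U : X.Opens) (e : Γ(M, U)), x ∈ U ∧ Props.GenLocus.IsGen M U e)
    {U O : X.Opens} (h : O ≤ U) [hO : Nonempty O] {σ τ : Γ(M, U)} (hst : res M h σ = res M h τ) : σ = τ := by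
  choose V e hxV he using hM
  refine eq_of_locally_eq M (U := fun y : U => V y.1 ⊓ U) (fun _ => inf_le_right)
    (fun y hy => Opens.mem_iSup.2 ⟨⟨y, hy⟩, hxV y, hy⟩) σ τ fun y => ?_
  haveI : Nonempty (V y.1 ⊓ U : X.Opens) := ⟨⟨y.1, hxV y.1, y.2⟩⟩
  haveI := nonempty_inf (U := V y.1 ⊓ U) (V := O)
  obtain ⟨a, ha, -⟩ := (he y.1).exists_eq (inf_le_left : V y.1 ⊓ U ≤ V y.1) (res M inf_le_right σ)
  obtain ⟨b, hb, -⟩ := (he y.1).exists_eq (inf_le_left : V y.1 ⊓ U ≤ V y.1) (res M inf_le_right τ)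
  rw [ha, hb]
  congr 1
  refine CycCovEt.res_injective (inf_le_left : V y.1 ⊓ U ⊓ O ≤ V y.1 ⊓ U)
    ((he y.1).injective (inf_le_left.trans inf_le_left) ?_)
  have ha' := congrArg (res M (inf_le_left : V y.1 ⊓ U ⊓ O ≤ V y.1 ⊓ U)) ha
  have hb' := congrArg (res M (inf_le_left : V y.1 ⊓ U ⊓ O ≤ V y.1 ⊓ U)) hb
  rw [res_smul, res_res, res_res] at ha' hb'
  rw [← ha', ← hb', ← res_res M h (inf_le_right : V y.1 ⊓ U ⊓ O ≤ O), hst, res_res]

theorem exists_root (hn : Pi1.IsNormalScheme X) {L : X.Modules} (hL : PicF.IsInvertible L) {N m p : ℕ} (hp : 0 < p)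
    (hN : N = m * p) (s : Coh.structureModule X ⟶ CohB1.tensorPow L N)
    (V₀ : X.Opens) [Nonempty V₀] (e₀ : Γ(L, V₀)) (he₀ : Props.GenLocus.IsGen L V₀ e₀)
    (b₀ : Γ(X, V₀)) (hs₀ : sec s V₀ = b₀ ^ p • pw L e₀ N) :
    ∃ s' : Coh.structureModule X ⟶ CohB1.tensorPow L m,
      ∀ (U : X.affineOpens) (e : L.val.obj (op U.1)), CycCov.IsGen L U.1 e →
        ∀ a b : Γ(X, U.1), SecTwist.val s U.1 = a • CycCov.lpow L U.1 e N →
          SecTwist.val s' U.1 = b • CycCov.lpow L U.1 e m → a = b ^ p := by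
  have hgen := exists_isGen hL
  have hgm : ∀ x : X, ∃ (U : X.Opens) (e : Γ(CohB1.tensorPow L m, U)), x ∈ U ∧ Props.GenLocus.IsGen _ U e :=
    fun x => let ⟨U, e, hx, he⟩ := hgen x; ⟨U, pw L e m, hx, isGen_pw he m⟩
  let τ : Γ(CohB1.tensorPow L m, V₀) := b₀ • pw L e₀ m
  have hloc : ∀ x : X, ∃ (V : X.Opens) (σ : Γ(CohB1.tensorPow L m, V)), x ∈ V ∧
      res _ (inf_le_left : V ⊓ V₀ ≤ V) σ = res _ (inf_le_right : V ⊓ V₀ ≤ V₀) τ := by
    intro x
    obtain ⟨U₁, e₁, hx₁, he₁⟩ := hgen x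
    obtain ⟨_, ⟨V, hV, rfl⟩, hxV, hVU⟩ := X.isBasis_affineOpens.exists_subset_of_mem_open hx₁ U₁.2
    replace hVU : V ≤ U₁ := hVU
    haveI : Nonempty V := ⟨⟨x, hxV⟩⟩
    haveI := nonempty_inf (U := V) (V := V₀)
    let e : Γ(L, V) := res L hVU e₁
    have he : Props.GenLocus.IsGen L V e := he₁.restrict hVU
    obtain ⟨u, hu, -⟩ := he.exists_eq (inf_le_left : V ⊓ V₀ ≤ V) (res L (inf_le_right : V ⊓ V₀ ≤ V₀) e₀)
    obtain ⟨a, ha, -⟩ := (isGen_pw he N).exists_eq le_rfl (sec s V)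
    rw [res_self] at ha
    have key : rres (inf_le_left : V ⊓ V₀ ≤ V) a = (rres (inf_le_right : V ⊓ V₀ ≤ V₀) b₀ * u ^ m) ^ p := by
      refine (isGen_pw he N).injective inf_le_left ?_
      rw [← res_smul, ← ha, sec_res, ← sec_res s (inf_le_right : V ⊓ V₀ ≤ V₀), hs₀, res_smul, res_pw, hu, pw_smul,
        smul_smul, res_pw, map_pow, mul_pow, ← pow_mul, ← hN]
    haveI := functionField_isFractionRing_of_isAffineOpen X V hV
    haveI := CycCovEt.isIntegrallyClosed_of_normal hn V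
    have hgg : X.germToFunctionField (V ⊓ V₀) (rres inf_le_left a) = algebraMap Γ(X, V) X.functionField a :=
      X.presheaf.germ_res_apply _ _ _ a
    obtain ⟨d, hd⟩ := IsIntegrallyClosed.algebraMap_eq_of_integral (R := Γ(X, V))
      (x := X.germToFunctionField (V ⊓ V₀) (rres (inf_le_right : V ⊓ V₀ ≤ V₀) b₀ * u ^ m))
      (IsIntegral.of_pow hp (by rw [← map_pow, ← key, hgg]; exact isIntegral_algebraMap))
    have hd' : rres (inf_le_left : V ⊓ V₀ ≤ V) d = rres (inf_le_right : V ⊓ V₀ ≤ V₀) b₀ * u ^ m :=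
      X.germToFunctionField_injective (V ⊓ V₀) ((X.presheaf.germ_res_apply _ _ _ d).trans hd)
    refine ⟨V, d • pw L e m, hxV, ?_⟩
    rw [res_smul, hd', res_smul, res_pw, res_pw, hu, pw_smul, smul_smul]
  choose V σ hxV hσ using hloc
  obtain ⟨g, hg⟩ := exists_glue (CohB1.tensorPow L m) (U := V) (V := ⊤) (fun _ => le_top)
    (fun y _ => Opens.mem_iSup.2 ⟨y, hxV y⟩) σ fun x y => by
      haveI : Nonempty (V x) := ⟨⟨x, hxV x⟩⟩
      haveI : Nonempty (V y) := ⟨⟨y, hxV y⟩⟩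
      haveI := nonempty_inf (U := V x) (V := V y)
      haveI := nonempty_inf (U := V x ⊓ V y) (V := V₀)
      refine res_inj hgm (inf_le_left : V x ⊓ V y ⊓ V₀ ≤ V x ⊓ V y) ?_
      rw [res_res, res_res]
      have h1 := congrArg (res _ (inf_le_inf_right V₀ inf_le_left : V x ⊓ V y ⊓ V₀ ≤ V x ⊓ V₀)) (hσ x)
      have h2 := congrArg (res _ (inf_le_inf_right V₀ inf_le_right : V x ⊓ V y ⊓ V₀ ≤ V y ⊓ V₀)) (hσ y)
      rw [res_res, res_res] at h1 h2
      exact h1.trans h2.symm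
  have hg₀ : res _ le_top g = τ := by
    refine eq_of_locally_eq _ (U := fun x => V x ⊓ V₀) (fun _ => inf_le_right)
      (fun y hy => Opens.mem_iSup.2 ⟨y, hxV y, hy⟩) _ _ fun x => ?_
    rw [← hσ x, res_res, ← hg x, res_res]
  refine ⟨homOfSec g, fun U e he a b ha hb => ?_⟩
  by_cases hU : Nonempty U.1
  swap
  · exact TopCat.Presheaf.section_ext X.sheaf U.1 _ _ fun y hy => absurd ⟨⟨y, hy⟩⟩ hU
  haveI := nonempty_inf (U := U.1) (V := V₀)
  obtain ⟨u, hu, -⟩ := he₀.exists_eq (inf_le_right : U.1 ⊓ V₀ ≤ V₀) (res L (inf_le_left : U.1 ⊓ V₀ ≤ U.1) e)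
  have hu0 : u ≠ 0 := by
    intro h
    have : (e : Γ(L, U.1)) = 0 := res_inj hgen (inf_le_left : U.1 ⊓ V₀ ≤ U.1) (by rw [hu, h, zero_smul, map_zero])
    exact zero_ne_one (α := Γ(X, U.1)) (he.1 (by simp only [this, smul_zero]))
  rw [CycCovEt.lpow_eq_pw] at ha hb
  have ha' : sec s U.1 = a • pw L e N := ha
  have hb' : res (CohB1.tensorPow L m) le_top g = b • pw L e m := (sec_homOfSec g U.1).symm.trans hb
  have e1 : rres (inf_le_left : U.1 ⊓ V₀ ≤ U.1) a * u ^ N = rres (inf_le_right : U.1 ⊓ V₀ ≤ V₀) b₀ ^ p := by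
    refine (isGen_pw he₀ N).injective inf_le_right ?_
    rw [← map_pow, ← res_smul, ← hs₀, sec_res, ← sec_res s (inf_le_left : U.1 ⊓ V₀ ≤ U.1), ha', res_smul, res_pw,
      res_pw, hu, pw_smul, smul_smul]
  have e2 : rres (inf_le_left : U.1 ⊓ V₀ ≤ U.1) b * u ^ m = rres (inf_le_right : U.1 ⊓ V₀ ≤ V₀) b₀ := by
    refine (isGen_pw he₀ m).injective inf_le_right ?_
    rw [← res_smul, show b₀ • pw L e₀ m = τ from rfl, ← hg₀, res_res,
      ← res_res (CohB1.tensorPow L m) (le_top : U.1 ≤ ⊤) inf_le_left, hb', res_smul, res_pw, res_pw, hu, pw_smul,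
      smul_smul]
  refine CycCovEt.res_injective (inf_le_left : U.1 ⊓ V₀ ≤ U.1) (mul_right_cancel₀ (pow_ne_zero N hu0) ?_)
  rw [e1, ← e2, mul_pow, map_pow, ← pow_mul, ← hN]

end Groth.Agent.CycCovIrr
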