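import Groth.Agent.CycCovIrr.Field
import Groth.Agent.CycCovIrr.Glue

/-! # Irreducibility of cyclic covers -/

set_option autoImplicit false
set_option linter.style.haveILetI false
set_option backward.isDefEq.respectTransparency false

universe u

open CategoryTheory AlgebraicGeometry Opposite TopologicalSpace

noncomputable section

namespace Groth.Agent.CycCovIrr

open Groth.Agent.QCoh Groth.Agent.Props.GenLocus Groth.Agent.Props.GenTensor

variable {X Y : Scheme.{u}} [IsIntegral X] {L : X.Modules} {N : ℕ}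
  {s : Coh.structureModule X ⟶ CohB1.tensorPow L N} {π : Y ⟶ X}

lemma exists_frame (hL : PicF.IsInvertible L) {O : X.Opens} {x : X} (hx : x ∈ O) :
    ∃ (V : X.affineOpens) (e : Γ(L, V.1)), x ∈ V.1 ∧ V.1 ≤ O ∧ Props.GenLocus.IsGen L V.1 e := by
  obtain ⟨U, e, hxU, he⟩ := exists_isGen hL x
  obtain ⟨_, ⟨V, hV, rfl⟩, hxV, hVU⟩ :=
    X.isBasis_affineOpens.exists_subset_of_mem_open (show x ∈ O ⊓ U from ⟨hx, hxU⟩) (O ⊓ U).2
  replace hVU : V ≤ O ⊓ U := hVU
  exact ⟨⟨V, hV⟩, res L (hVU.trans inf_le_right) e, hxV, hVU.trans inf_le_left, he.restrict _⟩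

theorem not_irreducible_iff (hL : PicF.IsInvertible L) (hN : 0 < N) (hnX : Pi1.IsNormalScheme X)
    (hroot : ∀ (V : X.Opens) [Nonempty V], ∃ ζ : Γ(X, V), IsPrimitiveRoot ζ N)
    {R : CycCov.Root L N s π} (hR : CycCov.IsCover R) :
    ¬ IrreducibleSpace Y ↔
      ∃ μ : ℕ, 1 < μ ∧ μ ∣ N ∧ ∃ s' : Coh.structureModule X ⟶ CohB1.tensorPow L (N / μ),
        ∀ (U : X.affineOpens) (e : L.val.obj (op U.1)), CycCov.IsGen L U.1 e →
          ∀ a b : Γ(X, U.1), SecTwist.val s U.1 = a • CycCov.lpow L U.1 e N →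
            SecTwist.val s' U.1 = b • CycCov.lpow L U.1 e (N / μ) → a = b ^ μ := by
  obtain ⟨hfin, hnY, W₀, hdX, hdY, hW₀⟩ := hR
  haveI := hfin
  constructor
  · intro hirr
    by_contra hne
    apply hirr
    have hgood : ∀ (V : X.affineOpens) (e : Γ(L, V.1)), Props.GenLocus.IsGen L V.1 e → V.1 ≤ W₀ → Nonempty V.1 →
        IsIrreducible ((π ⁻¹ᵁ V.1 : Y.Opens) : Set Y) := by
      intro V e he hVW hVne
      obtain ⟨a, ha, -⟩ := (isGen_pw he N).exists_eq le_rfl (sec s V.1)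
      rw [res_self] at ha
      haveI := CycCovEt.isIntegrallyClosed_of_normal hnX V.1
      obtain ⟨ζ, hζ⟩ := hroot V.1
      haveI : IsDomain (CycPic.Kum Γ(X, V.1) N a) := isDomain_kum hN hζ fun p hp hpN b hb => by
        obtain ⟨s', hs'⟩ := exists_root hnX hL hp.pos (Nat.div_mul_cancel hpN).symm s V.1 e he b (by rw [hb]; exact ha)
        exact hne ⟨p, hp.one_lt, hpN, s', hs'⟩
      have hf : SecTwist.val s V.1 = a • CycCov.lpow L V.1 e N := by rw [CycCovEt.lpow_eq_pw]; exact ha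
      let ψ : CycPic.Kum Γ(X, V.1) N a →+* Γ(Y, π ⁻¹ᵁ V.1) := CycCov.chart R V e (CycCovEt.isGen_prelude he) a hf
      have hψ : Function.Bijective ψ := hW₀ V hVW e _ a hf
      haveI : IsDomain Γ(Y, π ⁻¹ᵁ V.1) :=
        (RingEquiv.ofBijective ψ hψ).toMulEquiv.isDomain_iff.1 inferInstance
      have hA : IsAffineOpen (π ⁻¹ᵁ V.1) := V.2.preimage π
      rw [← hA.range_fromSpec, ← Set.image_univ]
      exact (IrreducibleSpace.isIrreducible_univ _).image _ hA.fromSpec.continuous.continuousOn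
    obtain ⟨x, hxW⟩ := hdX.nonempty
    obtain ⟨V, e, hxV, hVW, he⟩ := exists_frame hL (O := W₀) hxW
    haveI : Nonempty V.1 := ⟨⟨x, hxV⟩⟩
    have hVirr := hgood V e he hVW inferInstance
    refine (irreducibleSpace_def Y).2 ?_
    have hcl : closure ((π ⁻¹ᵁ V.1 : Y.Opens) : Set Y) = Set.univ := by
      refine Set.eq_univ_of_univ_subset (hdY.closure_eq.ge.trans (closure_minimal (fun y hy => ?_) isClosed_closure))
      obtain ⟨V', e', hyV', hV'W, he'⟩ := exists_frame hL (O := W₀) (show π y ∈ W₀ from hy)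
      haveI : Nonempty V'.1 := ⟨⟨π y, hyV'⟩⟩
      haveI := nonempty_inf (U := V.1) (V := V'.1)
      obtain ⟨⟨z, hz⟩⟩ := (inferInstance : Nonempty (V.1 ⊓ V'.1 : X.Opens))
      obtain ⟨V'', e'', hzV'', hV''le, he''⟩ := exists_frame hL hz
      obtain ⟨w, hw⟩ := (hgood V'' e'' he'' (hV''le.trans (inf_le_left.trans hVW)) ⟨⟨z, hzV''⟩⟩).nonempty
      refine mem_closure_iff.2 fun O hO hyO => ?_
      obtain ⟨q, -, hqO, hq⟩ := (hgood V' e' he' hV'W inferInstance).isPreirreducible O _ hO (π ⁻¹ᵁ V.1).2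
        ⟨y, hyV', hyO⟩ ⟨w, (hV''le hw).2, (hV''le hw).1⟩
      exact ⟨q, hqO, hq⟩
    have hc := hVirr.closure
    rw [hcl] at hc
    exact hc
  · rintro ⟨μ, hμ, hμN, s', hs'⟩ hirr
    haveI := hirr
    haveI : ∀ y : Y, _root_.IsReduced (Y.presheaf.stalk y) := fun y => by
      haveI := (hnY y).1
      infer_instance
    haveI : AlgebraicGeometry.IsReduced Y := isReduced_of_isReduced_stalk Y
    haveI : IsIntegral Y := isIntegral_of_irreducibleSpace_of_isReduced Y
    obtain ⟨x, hxW⟩ := hdX.nonempty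
    obtain ⟨V, e, hxV, hVW, he⟩ := exists_frame hL (O := W₀) hxW
    haveI : Nonempty V.1 := ⟨⟨x, hxV⟩⟩
    obtain ⟨a, ha, -⟩ := (isGen_pw he N).exists_eq le_rfl (SecTwist.val s V.1)
    obtain ⟨b, hb, -⟩ := (isGen_pw he (N / μ)).exists_eq le_rfl (SecTwist.val s' V.1)
    rw [res_self, ← CycCovEt.lpow_eq_pw] at ha hb
    have hab := hs' V e (CycCovEt.isGen_prelude he) a b ha hb
    let ψ : CycPic.Kum Γ(X, V.1) N a →+* Γ(Y, π ⁻¹ᵁ V.1) := CycCov.chart R V e (CycCovEt.isGen_prelude he) a ha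
    have hψ : Function.Bijective ψ := hW₀ V hVW e _ a ha
    haveI : Nonempty (π ⁻¹ᵁ V.1 : Y.Opens) := by
      by_contra hemp
      have h10 : (1 : CycPic.Kum Γ(X, V.1) N a) = 0 := hψ.1 (by
        rw [map_one, map_zero]
        exact TopCat.Presheaf.section_ext Y.sheaf _ _ _ fun y hy => absurd ⟨⟨y, hy⟩⟩ hemp)
      haveI : Nontrivial (CycPic.Kum Γ(X, V.1) N a) := AdjoinRoot.nontrivial _ (by
        rw [Polynomial.degree_X_pow_sub_C hN]; exact_mod_cast hN.ne')
      exact one_ne_zero h10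
    have hdom : IsDomain (CycPic.Kum Γ(X, V.1) N a) :=
      (RingEquiv.ofBijective ψ hψ).toMulEquiv.isDomain_iff.2 inferInstance
    rw [hab, ← Nat.div_mul_cancel hμN] at hdom
    exact not_isDomain_kum (Nat.div_pos (Nat.le_of_dvd hN hμN) (by omega)) hμ b hdom

end Groth.Agent.CycCovIrr
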